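import Cfsg.Agent.Lib.US7.PD

/-! # The cyclic tridiagonal matrix of rank at most three, any size `≥ 7` -/

set_option autoImplicit false

namespace Cfsg.Lib.US7

variable {K : Type*} [Field K]

theorem pd_keyZ (η x y z : ℤ → K) {R : ℤ} (hR : 4 ≤ R)
    (h : ∀ a b, -1 ≤ a → a ≤ R → -1 ≤ b → b ≤ R → (if a = b then η (a + 1) else 0) + (if a = b + 1 then η b else 0) +
      (if b = a + 1 then η a else 0) = x a * x b + y a * z b + z a * y b) :
    (∀ k, 3 ≤ k → k + 1 ≤ R → η 0 * η k = 0) ∧ (η 3 = 0 → η 0 * η 2 = 0) ∧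
      (η (-1) = 0 → η 2 = 0 → η 3 = 0 → η 0 * η 1 = 0) := by
  have key : ∀ (u v : Fin 4 → ℤ) (M : Matrix (Fin 4) (Fin 4) K), (∀ i, -1 ≤ u i ∧ u i ≤ R) → (∀ i, -1 ≤ v i ∧ v i ≤ R) →
      (∀ i j, M i j = (if u i = v j then η (u i + 1) else 0) + (if u i = v j + 1 then η (v j) else 0) +
      (if v j = u i + 1 then η (u i) else 0)) → M.det = 0 := fun u v M hu hv hM =>
    pd_minor (x ∘ u) (y ∘ u) (z ∘ u) (x ∘ v) (y ∘ v) (z ∘ v) M fun i j =>
      (hM i j).trans (h _ _ (hu i).1 (hu i).2 (hv j).1 (hv j).2)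
  refine ⟨fun k k1 k2 => ?_, fun h3 => ?_, fun h6 h2 h3 => ?_⟩
  · have := key ![0, k - 1, k, -1] ![1, k - 1, k + 1, -1]
      !![η 0, 0, 0, η (-1); if k = 3 then η 1 else 0, η k, 0, 0; 0, η (k - 1), η k, 0; 0, 0, 0, η 0]
      (fun i => by fin_cases i <;> simp <;> omega) (fun i => by fin_cases i <;> simp <;> omega) (by
        intro i j
        fin_cases i <;> fin_cases j <;> simp <;> grind)
    simp [Matrix.det_succ_row_zero, Fin.sum_univ_succ, Fin.succAbove] at this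
    rw [mul_eq_zero]; tauto
  · have := key ![0, 2, 3, -1] ![1, 2, 3, -1]
      !![η 0, 0, 0, η (-1); η 1, η 3, η 2, 0; 0, η 2, η 4, 0; 0, 0, 0, η 0]
      (fun i => by fin_cases i <;> simp <;> omega) (fun i => by fin_cases i <;> simp <;> omega) (by
        intro i j
        fin_cases i <;> fin_cases j <;> simp)
    simp [h3, Matrix.det_succ_row_zero, Fin.sum_univ_succ, Fin.succAbove] at this
    rw [mul_eq_zero]; tauto
  · have := key ![0, 1, 2, -1] ![0, 1, 2, -1]
      !![η 1, η 0, 0, η (-1); η 0, η 2, η 1, 0; 0, η 1, η 3, 0; η (-1), 0, 0, η 0]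
      (fun i => by fin_cases i <;> simp <;> omega) (fun i => by fin_cases i <;> simp <;> omega) (by
        intro i j
        fin_cases i <;> fin_cases j <;> simp)
    simp [h2, h3, h6, Matrix.det_succ_row_zero, Fin.sum_univ_succ, Fin.succAbove] at this
    rw [mul_eq_zero]; tauto

theorem rank3N {A : Type*} [AddCommGroup A] [DecidableEq A] {δ : A} {r : ℕ} (hr : 7 ≤ r)
    (hδ : addOrderOf δ = r) (η x y z : A → K)
    (h : ∀ a b, (if a = b then η (a + δ) else 0) + (if a = b + δ then η b else 0) +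
      (if b = a + δ then η a else 0) = x a * x b + y a * z b + z a * y b) {c : A} {k : ℕ}
    (ha : η c ≠ 0) (hb : η (c + k • δ) ≠ 0) : k • δ = 0 := by
  have inj : ∀ a b : ℤ, -(r : ℤ) < a - b → a - b < r → (a • δ = b • δ ↔ a = b) := fun a b h1 h2 =>
    ⟨fun e => by
      rw [← sub_eq_zero, ← sub_smul, ← addOrderOf_dvd_iff_zsmul_eq_zero, hδ] at e
      exact sub_eq_zero.1 (Int.eq_zero_of_abs_lt_dvd e (abs_lt.2 ⟨h1, h2⟩)), fun e => e ▸ rfl⟩
  have sh := fun s : A => pd_keyZ (fun a => η (s + a • δ)) (fun a => x (s + a • δ)) (fun a => y (s + a • δ))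
    (fun a => z (s + a • δ)) (R := r - 3) (by omega) fun a b a1 a2 b1 b2 => by
      have := h (s + a • δ) (s + b • δ)
      simp only [add_assoc s, add_right_inj, ← add_one_zsmul] at this
      rwa [if_congr (inj a b (by omega) (by omega)) rfl rfl, if_congr (inj a (b + 1) (by omega) (by omega)) rfl rfl,
        if_congr (inj b (a + 1) (by omega) (by omega)) rfl rfl] at this
  simp only [zero_smul, add_zero] at sh
  have k3 : ∀ s, η s ≠ 0 → ∀ j : ℤ, 3 ≤ j → j + 4 ≤ r → η (s + j • δ) = 0 := fun s hs j j1 j2 =>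
    (mul_eq_zero.1 ((sh s).1 j j1 (by omega))).resolve_left hs
  have k2 : ∀ s, η s ≠ 0 → η (s + (2 : ℤ) • δ) = 0 := fun s hs =>
    (mul_eq_zero.1 ((sh s).2.1 (k3 s hs 3 le_rfl (by omega)))).resolve_left hs
  have k1 : ∀ s, η s ≠ 0 → η (s + (1 : ℤ) • δ) = 0 := fun s hs => by
    by_contra h1
    have h6 : η (s + (-1 : ℤ) • δ) = 0 := by
      by_contra h6
      have := k2 _ h6
      rw [add_assoc, ← add_zsmul] at this
      exact h1 this
    exact h1 ((mul_eq_zero.1 ((sh s).2.2 h6 (k2 s hs) (k3 s hs 3 le_rfl (by omega)))).resolve_left hs)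
  have kk : ∀ s, η s ≠ 0 → ∀ j : ℤ, 1 ≤ j → j + 4 ≤ r → η (s + j • δ) = 0 := fun s hs j j1 j2 => by
    obtain rfl | rfl | j3 : j = 1 ∨ j = 2 ∨ 3 ≤ j := by omega
    exacts [k1 s hs, k2 s hs, k3 s hs j j3 j2]
  have hr0 : (r : ℤ) • δ = 0 := by rw [natCast_zsmul, ← hδ, addOrderOf_nsmul_eq_zero]
  have e : k • δ = ((k % r : ℕ) : ℤ) • δ := by rw [natCast_zsmul, ← hδ, mod_addOrderOf_nsmul]
  have lt : k % r < r := Nat.mod_lt _ (by omega)
  rw [e] at hb ⊢
  generalize k % r = j at hb lt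
  by_contra n
  have j0 : j ≠ 0 := fun e => n (by simp [e])
  by_cases l : j + 4 ≤ r
  · exact hb (kk c ha j (by omega) (by omega))
  · have := kk _ hb (r - j) (by omega) (by omega)
    rw [add_assoc, ← add_zsmul, add_sub_cancel, hr0, add_zero] at this
    exact ha this

end Cfsg.Lib.US7
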