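import Cfsg.Agent.Lib.US7.XC
import Cfsg.Agent.Lib.PGroup.Basic

/-! # The torus `A Z` is not self-normalising in a proper overgroup, any prime `n` -/

set_option autoImplicit false
set_option linter.unusedSectionVars false

namespace Cfsg.Lib.US7

open Module Cfsg.Lib.Unitary

open Subgroup in
/-- a pairing with values in a field: left kernel in `S`, right kernel containing `T` -/
theorem pair_index_le {X Y F : Type*} [Group X] [Group Y] [Finite Y] [Field F] (c : X → Y →* F)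
    {S : Subgroup X} {T : Subgroup Y} (hS : ∀ a b, c a = c b → a⁻¹ * b ∈ S) (hT : ∀ a, ∀ y ∈ T, c a y = 1) :
    S.index ≤ T.index := by
  classical
  have inj : Function.Injective fun t : X ⧸ S => c t.out := fun s t e => by
    rw [← Quotient.out_eq s, ← Quotient.out_eq t]
    exact QuotientGroup.eq.2 (hS _ _ e)
  have li : LinearIndependent F fun (t : X ⧸ S) (s : Y ⧸ T) => c t.out s.out := by
    refine LinearIndependent.of_comp (LinearMap.funLeft F F (QuotientGroup.mk : Y → Y ⧸ T)) ?_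
    refine (congrArg (fun v : X ⧸ S → Y → F => LinearIndependent F v) (funext fun t => funext fun y => ?_)).mpr
      ((linearIndependent_monoidHom Y F).comp _ inj)
    obtain ⟨l, hl⟩ := QuotientGroup.mk_out_eq_mul T y
    change c t.out (QuotientGroup.mk y : Y ⧸ T).out = c t.out y
    rw [hl, map_mul, hT _ _ l.2, mul_one]
  have := Fintype.ofFinite (Y ⧸ T)
  rw [index, index]
  rcases finite_or_infinite (X ⧸ S) with hq | hq
  · have := Fintype.ofFinite (X ⧸ S)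
    rw [Nat.card_eq_fintype_card, Nat.card_eq_fintype_card, ← finrank_fintype_fun_eq_card F (η := Y ⧸ T)]
    exact li.fintype_card_le_finrank
  · simp

open Subgroup in
/-- the commutator pairing on `E / (Z ⊓ E)` is alternating and non-degenerate -/
theorem isSquare_relIndex {F V : Type*} [Field F] [AddCommGroup V] [Module F V] [Nontrivial V]
    {E Z : Subgroup (V ≃ₗ[F] V)} [Finite E] [Group.IsNilpotent E]
    (hc : ∀ a ∈ E, ∀ b ∈ E, ∃ c : F, ∀ v, a (b v) = c • b (a v))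
    (hZ : ∀ a ∈ E, (∀ b ∈ E, a * b = b * a) → a ∈ Z) (hZ' : ∀ a ∈ Z, ∀ b ∈ E, a * b = b * a) :
    IsSquare (Z.relIndex E) := by
  choose c hc using hc
  obtain ⟨v0, h0⟩ := exists_ne (0 : V)
  have un : ∀ {s t : F} (g : V ≃ₗ[F] V), s • g v0 = t • g v0 → s = t := fun g e =>
    smul_left_injective F (by simpa using h0 : g v0 ≠ 0) e
  let χ : E → E →* F := fun a =>
    { toFun := fun b => c a a.2 b b.2
      map_one' := un (a : V ≃ₗ[F] V) (by simpa using (hc a a.2 1 (one_mem _) v0).symm)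
      map_mul' := fun b b' => un ((b : V ≃ₗ[F] V) * b' * a) (by
        have h1 := hc a a.2 (b * b' : E) (b * b').2 v0
        have h2 := hc a a.2 b b.2 ((b' : V ≃ₗ[F] V) v0)
        rw [hc a a.2 b' b'.2 v0, map_smul, smul_smul] at h2
        exact h1.symm.trans h2) }
  have k1 : ∀ a a' b : E, χ a b = χ a' b → b * (a⁻¹ * a') = a⁻¹ * a' * b := fun a a' b e => Subtype.ext (by
    change (b : V ≃ₗ[F] V) * ((a : V ≃ₗ[F] V)⁻¹ * a') = (a : V ≃ₗ[F] V)⁻¹ * a' * b
    rw [mul_assoc, eq_inv_mul_iff_mul_eq]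
    refine LinearEquiv.ext fun v => ?_
    have h1 := hc _ a'.2 _ b.2 v
    have h2 := hc _ a.2 _ b.2 (((a : V ≃ₗ[F] V)⁻¹ * a') v)
    rw [show c _ a.2 _ b.2 = c _ a'.2 _ b.2 from e] at h2
    refine h2.trans (Eq.trans ?_ h1.symm)
    simp)
  have k2 : ∀ a b : E, a * b = b * a → χ a b = 1 := fun a b e => un ((b : V ≃ₗ[F] V) * a) (by
    rw [one_smul]
    exact (hc _ a.2 _ b.2 v0).symm.trans (congrArg (fun g : E => (g : V ≃ₗ[F] V) v0) e))
  obtain ⟨A, -, -, hA, hC⟩ := PGroup.exists_scn_ge (⊥ : Subgroup E)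
  have RA : Z.subgroupOf E ≤ A := fun z hz => hC.le fun b _ => Subtype.ext (hZ' _ hz _ b.2).symm
  have h1 : A.index ≤ ((Z.subgroupOf E).subgroupOf A).index :=
    pair_index_le (fun a => (χ a).comp A.subtype) (fun a a' e => hC.le fun b hb =>
      k1 a a' b (DFunLike.congr_fun e ⟨b, hb⟩)) fun a y hy => k2 _ _ (Subtype.ext (hZ' _ hy _ a.2).symm)
  have h2 : ((Z.subgroupOf E).subgroupOf A).index ≤ A.index :=
    pair_index_le (fun a : A => χ a) (fun a a' e => hZ _ (a⁻¹ * a').1.2 fun b hb =>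
      congrArg Subtype.val (k1 a a' ⟨b, hb⟩ (DFunLike.congr_fun e _)).symm) fun a y hy =>
        k2 _ _ (hC.ge hy _ a.2)
  exact ⟨A.index, by rw [relIndex, ← relIndex_mul_index RA, relIndex, le_antisymm h2 h1]⟩

theorem xc_numN {r n w : ℕ} (hr : r.Prime) (h : 2 * n < r) (h1 : w * w ≤ n ^ 2) (h2 : w * w ≡ 1 [MOD r]) :
    w * w = 1 := by
  have h3 : w ≤ n := Nat.mul_self_le_mul_self_iff.1 (by rwa [← sq n])
  rcases w with _ | w
  · exact absurd (Nat.modEq_zero_iff_dvd.1 h2.symm) hr.not_dvd_one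
  have h4 : r ∣ w * (w + 2) := by
    have := (Nat.modEq_iff_dvd' (by nlinarith)).1 h2.symm
    rwa [show (w + 1) * (w + 1) - 1 = w * (w + 2) from Nat.sub_eq_of_eq_add (by ring)] at this
  rcases hr.dvd_mul.1 h4 with e | e
  · rw [Nat.eq_zero_of_dvd_of_lt e (by omega)]
  · have := Nat.le_of_dvd (by omega) e
    omega

variable {F K : Type*} [Field F] [Fintype F] [Field K] [Fintype K] [Algebra F K] {σ : F →+* F}
  {q n d τ : ℕ} {s : K →+* K} {B : K →ₛₗ[σ] K →ₗ[F] F}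

open Subgroup in
/-- `Md.fr_mem_of_ov` for every prime `n`: the index `Z.relIndex E ≤ n ^ 2` is a square. -/
theorem Md.fr_memN (h : Md q n d τ s B) {G : Subgroup (K ≃ₗ[F] K)} (O : Ov q τ B G) :
    fr F K ∈ G := by
  refine (h.frob_or O).resolve_right fun hN => ?_
  classical
  have : FiniteDimensional F K := Module.Finite.of_finite
  have : Finite (K ≃ₗ[F] K) := Finite.of_injective _ DFunLike.coe_injective
  obtain ⟨r, hr, hrτ⟩ := Nat.exists_prime_and_dvd h.toNm.one_lt.ne'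
  have : Fact r.Prime := ⟨hr⟩
  have rn : 2 * n < r := by
    have h1 := (h.toNm.prime_mod hr hrτ).1
    have h2 := hr.two_le
    by_contra! h3
    rcases h3.lt_or_eq with h3 | h3
    · rw [Nat.mod_eq_of_lt h3] at h1
      omega
    · rw [h3, Nat.mod_self] at h1
      omega
  obtain ⟨m, hm, cop⟩ := h.hall O
  have c1 : Nat.Coprime τ (q ^ 2 - 1) := h.toNm.cop.1
  have q1 : q + 1 ∣ q ^ 2 - 1 := ⟨q - 1, by simpa using Nat.sq_sub_sq q 1⟩
  have c2 : Nat.Coprime τ (q + 1) := c1.coprime_dvd_right q1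
  have nz : ∀ y ∈ Sc F K τ, y ≠ 1 → y ^ (q ^ 2 - 1) ≠ 1 := fun y hy y1 e =>
    y1 (by simpa [c1.gcd_eq_one] using pow_gcd_eq_one.2 ⟨pow_of_mem_Sc hy, e⟩)
  let A : Subgroup G := (Sc F K τ).subgroupOf G
  have cA : Nat.card A = τ := (Nat.card_congr (subgroupOfEquivOfLe (h.A_le O)).toEquiv).trans h.card_A
  have iA : A.index = m := Nat.eq_of_mul_eq_mul_left h.toNm.one_lt.le (by
    rw [← hm, ← A.card_mul_index, cA])
  obtain ⟨R0⟩ : Nonempty (Sylow r A) := inferInstance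
  let R : Sylow r G := (R0.isPGroup'.map A.subtype).toSylow (by
    rw [index_map_subtype, iA]
    exact fun e => (hr.dvd_mul.1 e).elim R0.not_dvd_index
      ((hr.coprime_iff_not_dvd.1 (cop.coprime_dvd_left hrτ))))
  have RA : (R : Subgroup G) ≤ A := map_subtype_le _
  obtain ⟨x, ox⟩ := exists_prime_orderOf_dvd_card' (G := R) r (by
    have := (R : Subgroup G).card_mul_index
    rw [hm] at this
    exact (hr.dvd_mul.1 (this ▸ hrτ.mul_right m)).resolve_right R.not_dvd_index)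
  have xA : (x.1.1 : K ≃ₗ[F] K) ∈ Sc F K τ := RA x.2
  have x1 : (x.1.1 : K ≃ₗ[F] K) ≠ 1 := fun e => by
    rw [show x = 1 from Subtype.ext (Subtype.ext e), orderOf_one] at ox
    exact hr.one_lt.ne ox
  have xr : (x.1.1 : K ≃ₗ[F] K) ^ r = 1 := by
    rw [← coe_pow, ← coe_pow, show x ^ r = 1 from orderOf_dvd_iff_pow_eq_one.1 ox.dvd]; rfl
  obtain ⟨u, hu, hd⟩ : ∃ u : ℕ, u.Prime ∧ ¬ m.factorization u ≤ (q + 1).factorization u := by
    by_contra! k
    have m0 : m ≠ 0 := iA ▸ index_ne_zero_of_finite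
    have := Nat.le_of_dvd q.succ_pos ((Nat.factorization_prime_le_iff_dvd m0 q.succ_ne_zero).1 k)
    refine O.ne ((eq_of_le_of_card_ge O.sc ?_).ge.trans (Sc_le_Nn _))
    rw [hm, h.card_AZ]
    exact Nat.mul_le_mul_left _ this
  have : Fact u.Prime := ⟨hu⟩
  have um : u ∣ m := Nat.dvd_of_factorization_pos (by omega)
  have uτ : Nat.Coprime u τ := (cop.coprime_dvd_right um).symm
  obtain ⟨U, U1, U2, U3⟩ := xc_syl (u := u) (fun e => hu.coprime_iff_not_dvd.1 uτ (e ▸ hrτ))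
    R fun g hg y hy => Subtype.ext (Sc_comm (RA hy) (hN ⟨g.2, h.ti xA (nz _ xA x1)
      (RA ((mem_normalizer_iff.1 hg x.1).1 x.2))⟩))
  let Z : Subgroup G := (Sc F K (q + 1)).subgroupOf G
  have Zs : ∀ z ∈ Z, ∃ c : F, ∀ v, (z : K ≃ₗ[F] K) v = c • v := fun z hz => by
    obtain ⟨c, hc⟩ := (h.range_scl.ge hz : (z : K ≃ₗ[F] K) ∈ (scl q F K).range)
    exact ⟨((c : Fˣ) : F), fun v => hc ▸ rfl⟩
  have Zc : Z ≤ center G := fun z hz => mem_center_iff.2 fun g => Subtype.ext (LinearEquiv.ext fun v => by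
    obtain ⟨c, hc⟩ := Zs z hz
    change g.1 (z.1 v) = z.1 (g.1 v)
    rw [hc, hc, map_smul])
  have cZ : Nat.card Z = q + 1 := by
    rw [Nat.card_congr (subgroupOfEquivOfLe ((Sc_mono (dvd_mul_left _ _)).trans O.sc)).toEquiv,
      ← h.range_scl, ← Nat.card_congr (MonoidHom.ofInjective h.scl_inj).toEquiv, h.card_mu]
  have UZ : ¬ U ≤ Z := fun e => hd (by
    have e1 := (U1.toSylow U2).card_eq_multiplicity
    have e2 := card_dvd_of_le e
    rw [cZ] at e2
    change Nat.card U = _ at e1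
    rw [e1, hm, Nat.factorization_mul (by have := h.toNm.one_lt; omega) (iA ▸ index_ne_zero_of_finite),
      Finsupp.add_apply, Nat.factorization_eq_zero_of_not_dvd (hu.coprime_iff_not_dvd.1 uτ), zero_add] at e2
    exact (hu.pow_dvd_iff_le_factorization q.succ_ne_zero).1 e2)
  obtain ⟨E, EU, EZ, hE⟩ := xc_cent U1 Zc UZ
  have cx : ∀ e ∈ U, x.1 * e = e * x.1 → e ∈ Z := fun e he hc => by
    obtain ⟨w, hw⟩ := h.cent (g := e.1) xA (nz _ xA x1) (congrArg Subtype.val hc.symm)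
    obtain ⟨w', h1, h2⟩ := mem_Sc.1 (hw ▸ h.mu_mem O (hw ▸ e.2) : e.1 ∈ Sc F K (τ * (q + 1)))
    obtain ⟨k, hk⟩ := U1 ⟨e, he⟩
    refine mem_Sc.2 ⟨w', ?_, h2⟩
    have e1 : e.1 = mu F K w' := LinearEquiv.ext h2
    have h3 : w' ^ u ^ k = 1 := Units.ext (by
      have := congrArg (fun g : U => (g.1.1 : K ≃ₗ[F] K) 1) hk
      simp only [coe_pow, e1, ← map_pow, mu_apply] at this
      simpa using this)
    exact orderOf_dvd_iff_pow_eq_one.1 (Nat.Coprime.dvd_of_dvd_mul_left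
      ((uτ.pow_left k).coprime_dvd_left (orderOf_dvd_of_pow_eq_one h3)) (orderOf_dvd_of_pow_eq_one h1))
  have xU : ∀ g, g ∈ U ↔ x.1 * g * x.1⁻¹ ∈ U := mem_normalizer_iff.1 (U3 x.2)
  have xE : ∀ e ∈ E, x.1 * e * x.1⁻¹ ∈ E := fun e he => (hE _).2 ⟨(xU e).1 (EU he), fun g hg => by
    have h1 := ((hE e).1 he).2 (x.1⁻¹ * g * x.1) ((xU _).2 (by simpa [mul_assoc] using hg))
    have h2 := mem_center_iff.1 (Zc h1) x.1
    rw [show x.1 * e * x.1⁻¹ * g * (x.1 * e * x.1⁻¹)⁻¹ * g⁻¹ =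
      x.1 * (e * (x.1⁻¹ * g * x.1) * e⁻¹ * (x.1⁻¹ * g * x.1)⁻¹) * x.1⁻¹ by group, h2, mul_inv_cancel_right]
    exact h1⟩
  have ab := comm_of_ab hr xr (by rw [h.rank]; omega) (h.xc_irr xA (nz _ xA x1))
    (E := (E ⊓ centralizer (E : Set G)).map G.subtype) (by
      rintro _ ⟨a, ha, rfl⟩ _ ⟨b, hb, rfl⟩
      exact congrArg Subtype.val (hb.2 a ha.1)) (by
      rintro _ ⟨a, ha, rfl⟩
      refine ⟨x.1 * a * x.1⁻¹, ⟨xE a ha.1, fun b hb => ?_⟩, rfl⟩
      have n : x.1 ∈ normalizer (E : Set G) := mem_normalizer_fintype xE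
      have := ha.2 _ ((mem_normalizer_iff.1 (inv_mem n) b).1 hb)
      rw [show b * (x.1 * a * x.1⁻¹) = x.1 * (x.1⁻¹ * b * x.1⁻¹⁻¹ * a) * x.1⁻¹ by group, this]
      group)
  have k1 : ∀ a ∈ E.map G.subtype, ∀ b ∈ E.map G.subtype, ∃ c : F, ∀ v, a (b v) = c • b (a v) := by
    rintro _ ⟨a, ha, rfl⟩ _ ⟨b, hb, rfl⟩
    obtain ⟨c, hc⟩ := Zs _ (((hE a).1 ha).2 b (EU hb))
    exact ⟨c, fun v => by simpa using hc (b.1 (a.1 v))⟩
  have k2 : ∀ a ∈ E.map G.subtype, (∀ b ∈ E.map G.subtype, a * b = b * a) → a ∈ Z.map G.subtype := by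
    rintro _ ⟨a, ha, rfl⟩ hc
    exact ⟨a, cx a (EU ha) (Subtype.ext (ab _ ⟨a, ⟨ha, fun b hb =>
      Subtype.ext (hc _ ⟨b, hb, rfl⟩).symm⟩, rfl⟩)), rfl⟩
  have le := relIndex_le k1 k2
  have := ((U1.to_le EU).map G.subtype).isNilpotent
  obtain ⟨w, sq⟩ := isSquare_relIndex k1 k2 (by
    rintro _ ⟨a, ha, rfl⟩ _ ⟨b, -, rfl⟩
    exact congrArg Subtype.val (mem_center_iff.1 (Zc ha) b).symm)
  rw [relIndex_map_map_of_injective _ _ (subtype_injective G)] at le sq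
  rw [h.rank] at le
  have md := Transfer.card_modEq_card_inf_centralizer (q := r) (A := zpowers x.1) (T := E)
    (R.isPGroup'.to_le (zpowers_le.2 x.2)) (zpowers_le.2 (mem_normalizer_fintype xE))
  have e1 : E ⊓ centralizer (zpowers x.1 : Set G) = Z ⊓ E := le_antisymm
    (fun e he => ⟨cx e (EU he.1) (he.2 _ (mem_zpowers _)), he.1⟩)
    fun e he => ⟨he.2, fun g _ => mem_center_iff.1 (Zc he.1) g⟩
  have e2 : Nat.card ↥(Z ⊓ E) * Z.relIndex E = Nat.card E := Coprime.card_inf_mul_relIndex _ _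
  rw [e1, ← e2, sq] at md
  have c3 : Nat.Coprime r (Nat.card ↥(Z ⊓ E)) :=
    (c2.coprime_dvd_left hrτ).coprime_dvd_right (cZ ▸ card_dvd_of_le inf_le_left)
  have md' : w * w ≡ 1 [MOD r] := Nat.ModEq.cancel_left_of_coprime c3 (by simpa using md)
  exact EZ (relIndex_eq_one.1 (sq.trans (xc_numN hr rn (sq ▸ le) md')))

end Cfsg.Lib.US7
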